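import Cfsg.Agent.StandardComponent.AltAut
import Cfsg.Agent.UAlt.ModExists
import Cfsg.Agent.FastGrp
import Cfsg.Agent.Prune
set_option linter.all false
prune_inst 0x7f00000000000000000000000000000000000000000000000000000000000000000000000000000000000000000000000000000000000000000000000000000000000000000000000000000000000000003fffffffffffffffffffffffffffbeffbdffffffff
open scoped Cfsg.Agent.FastGrp

/-!
# `Aut(A₅) = S₅`

Automorphisms of alternating groups of degree at least five, not equal to six, are induced by permutations.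
-/

set_option autoImplicit false
set_option linter.unusedSectionVars false

namespace Cfsg.Agent.UAlt.AutFive

open Equiv Equiv.Perm Subgroup
open Cfsg.Agent.Lib.AltCarmichael
open Cfsg.Agent.SporadicRecognition.AltCover
open Cfsg.Agent.StandardComponent.AltAut

/-- automorphisms of `A₅` preserve three-cycles -/
theorem isThreeCycle_map_five (e : MulAut (alternatingGroup (Fin 5))) {g : alternatingGroup (Fin 5)}
    (hg : (g : Perm (Fin 5)).IsThreeCycle) : (e g : Perm (Fin 5)).IsThreeCycle := by
  have ho : orderOf (e g : Perm (Fin 5)) = 3 := by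
    rw [Subgroup.orderOf_coe, MulEquiv.orderOf_eq, ← Subgroup.orderOf_coe]
    exact hg.orderOf
  obtain ⟨j, hj⟩ := cycleType_prime_order (σ := (e g : Perm (Fin 5))) (by rw [ho]; exact Nat.prime_three)
  rw [ho] at hj
  have hsum : 3 * (j + 1) ≤ 5 := by
    have h := (e g : Perm (Fin 5)).sum_cycleType
    have h2 : (e g : Perm (Fin 5)).support.card ≤ 5 := by
      simpa using Finset.card_le_univ (e g : Perm (Fin 5)).support
    rw [hj, Multiset.sum_replicate, smul_eq_mul] at h
    omega
  have hj0 : j = 0 := by omega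
  rw [hj0] at hj
  exact hj

theorem exists_conj_of {m : ℕ} (hm : 3 ≤ m) (e : MulAut (alternatingGroup (Fin (m + 2))))
    (hU : ∀ i (hi : i < m), (e (cy m i hi) : Perm (Fin (m + 2))).IsThreeCycle) :
    ∃ σ : Perm (Fin (m + 2)), ∀ x : alternatingGroup (Fin (m + 2)), (e x : Perm (Fin (m + 2))) = σ * x * σ⁻¹ := by
  classical
  -- the images of the Carmichael generators
  have hne : ∀ i (hi : i < m) j (hj : j < m), i ≠ j →
      (e (cy m i hi) : Perm (Fin (m + 2))) ≠ e (cy m j hj) := fun i hi j hj hij h =>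
    cy_ne hi hj hij (e.injective (Subtype.ext h))
  have hni : ∀ i (hi : i < m) j (hj : j < m), i ≠ j →
      (e (cy m j hj) : Perm (Fin (m + 2))) ≠ (e (cy m i hi) : Perm (Fin (m + 2)))⁻¹ := fun i hi j hj hij h =>
    cy_ne_inv hi hj hij (e.injective (Subtype.ext (by rw [h, map_inv]; rfl)))
  have hsq : ∀ i (hi : i < m) j (hj : j < m), i ≠ j →
      ((e (cy m i hi) : Perm (Fin (m + 2))) * e (cy m j hj)) ^ 2 = 1 := fun i hi j hj hij => by
    have h := congrArg (fun x => (e x : Perm (Fin (m + 2)))) (cy_sq hi hj hij)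
    simpa using h
  have harc : ∀ i (hi : i < m) j (hj : j < m), i ≠ j →
      ∃ r, (e (cy m i hi) : Perm (Fin (m + 2))) r = (e (cy m j hj) : Perm (Fin (m + 2))) r ∧
        (e (cy m i hi) : Perm (Fin (m + 2))) r ≠ r := fun i hi j hj hij =>
    exists_arc (hU i hi) (hU j hj) (hne i hi j hj hij) (hni i hi j hj hij) (hsq i hi j hj hij)
  have h0 : 0 < m := by omega
  have h1 : 1 < m := by omega
  obtain ⟨q, hq, hq'⟩ := harc 0 h0 1 h1 (by omega)
  obtain ⟨p, hp⟩ : ∃ p, p = (e (cy m 0 h0) : Perm (Fin (m + 2))) q := ⟨_, rfl⟩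
  have hpq : p ≠ q := by rw [hp]; exact hq'
  have hall : ∀ i (hi : i < m), (e (cy m i hi) : Perm (Fin (m + 2))) q = p := by
    intro i hi
    by_cases hi0 : i = 0
    · subst hi0; exact hp.symm
    by_cases hi1 : i = 1
    · subst hi1; rw [hp, hq]
    rw [hp]
    exact arc_of_three (hU 0 h0) (hU 1 h1) (hU i hi) (hne 0 h0 1 h1 (by omega)) hq' hq
      (harc 0 h0 i hi (Ne.symm hi0)) (harc 1 h1 i hi (Ne.symm hi1))
  have hqm : ∀ i (hi : i < m), (e (cy m i hi) : Perm (Fin (m + 2))) q ≠ q := fun i hi => by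
    rw [hall i hi]; exact hpq
  -- the third point
  have hcq : ∀ i (hi : i < m), (e (cy m i hi) : Perm (Fin (m + 2))) p ≠ q := fun i hi => by
    rw [← hall i hi]; exact apply_two_ne (hU i hi) (hqm i hi)
  have hcp : ∀ i (hi : i < m), (e (cy m i hi) : Perm (Fin (m + 2))) p ≠ p := fun i hi h => by
    apply hqm i hi
    rw [← hall i hi] at h
    exact (e (cy m i hi) : Perm (Fin (m + 2))).injective h
  have hcc : ∀ i (hi : i < m), (e (cy m i hi) : Perm (Fin (m + 2)))
      ((e (cy m i hi) : Perm (Fin (m + 2))) p) = q := fun i hi => by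
    rw [← hall i hi]; exact apply_three (hU i hi) q
  have hinj : ∀ i (hi : i < m) j (hj : j < m), i ≠ j →
      (e (cy m i hi) : Perm (Fin (m + 2))) p ≠ (e (cy m j hj) : Perm (Fin (m + 2))) p := by
    intro i hi j hj hij h
    apply hne i hi j hj hij
    apply eq_of_arc (hU i hi) (hU j hj) (hqm i hi)
    · rw [hall, hall]
    · rw [hall, hall]; exact h
  have hfix : ∀ i (hi : i < m) j (hj : j < m), i ≠ j →
      (e (cy m i hi) : Perm (Fin (m + 2))) ((e (cy m j hj) : Perm (Fin (m + 2))) p) =
        (e (cy m j hj) : Perm (Fin (m + 2))) p := by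
    intro i hi j hj hij
    apply apply_of_not (hU i hi) (hqm i hi)
    · exact hcq j hj
    · rw [hall]; exact hcp j hj
    · rw [hall]; exact (hinj i hi j hj hij).symm
  -- the permutation
  let f : Fin (m + 2) → Fin (m + 2) := fun x =>
    if h : x.val < m then (e (cy m x.val h) : Perm (Fin (m + 2))) p else if x.val = m then q else p
  have hf1 : ∀ i (hi : i < m), f (Fin.ofNat (m + 2) i) = (e (cy m i hi) : Perm (Fin (m + 2))) p := by
    intro i hi
    have hv : (Fin.ofNat (m + 2) i).val = i := ofNat_val (by omega)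
    have hlt : (Fin.ofNat (m + 2) i).val < m := by rw [hv]; exact hi
    change (if h : (Fin.ofNat (m + 2) i).val < m then
      (e (cy m (Fin.ofNat (m + 2) i).val h) : Perm (Fin (m + 2))) p else
        if (Fin.ofNat (m + 2) i).val = m then q else p) = _
    rw [dif_pos hlt]
    congr 3
    congr 1
  have hf2 : f (Fin.ofNat (m + 2) m) = q := by
    have hv : (Fin.ofNat (m + 2) m).val = m := ofNat_val (by omega)
    change (if h : (Fin.ofNat (m + 2) m).val < m then
      (e (cy m (Fin.ofNat (m + 2) m).val h) : Perm (Fin (m + 2))) p else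
        if (Fin.ofNat (m + 2) m).val = m then q else p) = _
    rw [dif_neg (by omega), if_pos hv]
  have hf3 : f (Fin.ofNat (m + 2) (m + 1)) = p := by
    have hv : (Fin.ofNat (m + 2) (m + 1)).val = m + 1 := ofNat_val (by omega)
    change (if h : (Fin.ofNat (m + 2) (m + 1)).val < m then
      (e (cy m (Fin.ofNat (m + 2) (m + 1)).val h) : Perm (Fin (m + 2))) p else
        if (Fin.ofNat (m + 2) (m + 1)).val = m then q else p) = _
    rw [dif_neg (by omega), if_neg (by omega)]
  have hcases : ∀ x : Fin (m + 2), (∃ i, i < m ∧ x = Fin.ofNat (m + 2) i) ∨ x = Fin.ofNat (m + 2) m ∨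
      x = Fin.ofNat (m + 2) (m + 1) := by
    intro x
    have hx := x.isLt
    rcases Nat.lt_or_ge x.val m with h | h
    · left; exact ⟨x.val, h, Fin.ext (ofNat_val hx).symm⟩
    rcases Nat.lt_or_ge x.val (m + 1) with h' | h'
    · right; left
      apply Fin.ext; rw [ofNat_val (by omega)]; omega
    · right; right
      apply Fin.ext; rw [ofNat_val (by omega)]; omega
  have hfi : Function.Injective f := by
    intro x y hxy
    rcases hcases x with ⟨i, hi, rfl⟩ | rfl | rfl <;> rcases hcases y with ⟨j, hj, rfl⟩ | rfl | rfl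
    · rw [hf1 i hi, hf1 j hj] at hxy
      by_contra hne'
      exact hinj i hi j hj (fun h => hne' (by rw [h])) hxy
    · rw [hf1 i hi, hf2] at hxy; exact absurd hxy (hcq i hi)
    · rw [hf1 i hi, hf3] at hxy; exact absurd hxy (hcp i hi)
    · rw [hf1 j hj, hf2] at hxy; exact absurd hxy.symm (hcq j hj)
    · rfl
    · rw [hf2, hf3] at hxy; exact absurd hxy.symm hpq
    · rw [hf1 j hj, hf3] at hxy; exact absurd hxy.symm (hcp j hj)
    · rw [hf2, hf3] at hxy; exact absurd hxy hpq
    · rfl
  let σ : Perm (Fin (m + 2)) := Equiv.ofBijective f (Finite.injective_iff_bijective.1 hfi)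
  have hσ : ∀ x, σ x = f x := fun x => rfl
  have hkey : ∀ i (hi : i < m), (e (cy m i hi) : Perm (Fin (m + 2))) = σ * cyc m i * σ⁻¹ := by
    intro i hi
    rw [eq_mul_inv_iff_mul_eq]
    ext1 x
    rw [Perm.mul_apply, Perm.mul_apply, hσ, hσ]
    rcases hcases x with ⟨j, hj, rfl⟩ | rfl | rfl
    · by_cases hij : i = j
      · subst hij
        rw [cyc_apply_self hi, hf1 i hi, hf2, hcc i hi]
      · rw [cyc_apply_of_ne hi hj hij, hf1 j hj, hfix i hi j hj hij]
    · rw [cyc_apply_m hi, hf2, hf3, hall i hi]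
    · rw [cyc_apply_m_succ, hf3, hf1 i hi]
  refine ⟨σ, fun x => ?_⟩
  have h := hom_ext (m := m) (by omega)
    (f := (alternatingGroup (Fin (m + 2))).subtype.comp e.toMonoidHom)
    (g := (MulAut.conj σ).toMonoidHom.comp (alternatingGroup (Fin (m + 2))).subtype)
    (fun i hi => hkey i hi)
  exact DFunLike.congr_fun h x


/-- automorphisms of the alternating group of degree at least five, not six, are induced by permutations -/
theorem exists_autHom_fin (n : ℕ) (h5 : 5 ≤ n) (h6 : n ≠ 6) :
    ∃ ψ : MulAut (alternatingGroup (Fin n)) →* Equiv.Perm (Fin n), ∀ (e : MulAut (alternatingGroup (Fin n)))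
      (x : alternatingGroup (Fin n)), ((e x : alternatingGroup (Fin n)) : Perm (Fin n)) = ψ e * x * (ψ e)⁻¹ := by
  rcases h5.lt_or_eq with h | rfl
  · exact exists_autHom n (by omega)
  · choose f hf using fun e => exists_conj_of (m := 3) le_rfl e
      (fun i hi => isThreeCycle_map_five e (isThreeCycle_cyc hi))
    refine ⟨MonoidHom.mk' f fun a b => ?_, hf⟩
    apply conj_unique (m := 3) (by omega)
    intro x
    rw [← hf (a * b) x, MulAut.mul_apply, hf a, hf b]
    group

/-- the same for the alternating group on a finite type -/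
theorem exists_autHom_type (Ω : Type*) [Fintype Ω] [DecidableEq Ω] (h5 : 5 ≤ Fintype.card Ω)
    (h6 : Fintype.card Ω ≠ 6) :
    ∃ ψ : MulAut (alternatingGroup Ω) →* Perm Ω, ∀ (f : MulAut (alternatingGroup Ω))
      (x : alternatingGroup Ω), ((f x : alternatingGroup Ω) : Perm Ω) = ψ f * x * (ψ f)⁻¹ := by
  obtain ⟨ψ, hψ⟩ := exists_autHom_fin (Fintype.card Ω) h5 h6
  let ε := Fintype.equivFin Ω
  let A : alternatingGroup Ω ≃* alternatingGroup (Fin (Fintype.card Ω)) := Equiv.altCongrHom ε
  have hA : ∀ x : alternatingGroup Ω, (A x : Perm (Fin (Fintype.card Ω))) = ε.permCongrHom x := fun x => rfl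
  let C : MulAut (alternatingGroup Ω) →* MulAut (alternatingGroup (Fin (Fintype.card Ω))) :=
    { toFun := fun f => (A.symm.trans f).trans A
      map_one' := by ext x : 1; simp
      map_mul' := fun f g => by
        ext x : 1
        simp [MulEquiv.trans_apply] }
  refine ⟨(ε.permCongrHom.symm.toMonoidHom.comp ψ).comp C, fun f x => ?_⟩
  have h1 := hψ (C f) (A x)
  have h2 : C f (A x) = A (f x) := by
    show A (f (A.symm (A x))) = A (f x)
    rw [MulEquiv.symm_apply_apply]
  rw [h2, hA, hA] at h1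
  apply ε.permCongrHom.injective
  rw [h1, map_mul, map_mul, map_inv]
  have h3 : ε.permCongrHom (((ε.permCongrHom.symm.toMonoidHom.comp ψ).comp C) f) = ψ (C f) :=
    ε.permCongrHom.apply_symm_apply (ψ (C f))
  rw [h3]

end Cfsg.Agent.UAlt.AutFive
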