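import Mathlib
import Cfsg.Agent.StdAlt.PermFour
set_option linter.all false

/-!
# The alternating group on a subset

`sym S`, `alt S`: the (even) permutations of `α` fixing all points outside the finite set `S`.
`fixIn S σ`: the fixed points of `σ` in `S`.
-/

set_option autoImplicit false
set_option linter.unusedSectionVars false

namespace Cfsg.Agent.UAlt

open Equiv Equiv.Perm Subgroup
open Cfsg.Agent.StdAlt.PermTypes (cyc)

variable {α : Type*} [Fintype α] [DecidableEq α]

/-- the permutations fixing all points outside `S` -/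
def sym (S : Finset α) : Subgroup (Perm α) where
  carrier := {g | ∀ x, x ∉ S → g x = x}
  mul_mem' {a b} ha hb x hx := by rw [Perm.mul_apply, hb x hx, ha x hx]
  one_mem' _ _ := rfl
  inv_mem' {a} ha x hx := by rw [Perm.inv_eq_iff_eq]; exact (ha x hx).symm

theorem mem_sym {S : Finset α} {g : Perm α} : g ∈ sym S ↔ ∀ x, x ∉ S → g x = x := Iff.rfl

/-- the even permutations fixing all points outside `S` -/
def alt (S : Finset α) : Subgroup (Perm α) := alternatingGroup α ⊓ sym S

theorem mem_alt {S : Finset α} {g : Perm α} :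
    g ∈ alt S ↔ g ∈ alternatingGroup α ∧ ∀ x, x ∉ S → g x = x := Iff.rfl

theorem alt_le_sym (S : Finset α) : alt S ≤ sym S := inf_le_right

theorem alt_le (S : Finset α) : alt S ≤ alternatingGroup α := inf_le_left

theorem sym_mono {S T : Finset α} (h : S ⊆ T) : sym S ≤ sym T :=
  fun _ hg x hx => hg x fun hS => hx (h hS)

theorem alt_mono {S T : Finset α} (h : S ⊆ T) : alt S ≤ alt T :=
  inf_le_inf_left _ (sym_mono h)

theorem mem_of_mem_sym {S : Finset α} {g : Perm α} (hg : g ∈ sym S) {x : α} (hx : x ∈ S) :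
    g x ∈ S := by
  by_contra h
  have h1 := hg _ h
  have h2 := g.injective h1
  rw [h2] at h
  exact h hx

theorem mem_iff_of_mem_sym {S : Finset α} {g : Perm α} (hg : g ∈ sym S) {x : α} :
    g x ∈ S ↔ x ∈ S := by
  refine ⟨fun h => ?_, mem_of_mem_sym hg⟩
  by_contra hx
  rw [hg x hx] at h
  exact hx h

theorem sym_univ : sym (Finset.univ : Finset α) = ⊤ :=
  top_le_iff.mp fun _ _ x hx => absurd (Finset.mem_univ x) hx

theorem alt_univ : alt (Finset.univ : Finset α) = alternatingGroup α := by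
  rw [alt, sym_univ, inf_top_eq]

/-- `sym S` is the symmetric group of `S` -/
noncomputable def symEquiv (S : Finset α) : Perm S ≃* sym S := by
  refine MulEquiv.ofBijective
    ((ofSubtype (p := fun x => x ∈ S)).codRestrict (sym S) fun g x hx =>
      ofSubtype_apply_of_not_mem g hx) ⟨?_, ?_⟩
  · intro g h hgh
    exact ofSubtype_injective (congrArg Subtype.val hgh)
  · rintro ⟨g, hg⟩
    refine ⟨g.subtypePerm fun x => mem_iff_of_mem_sym hg, Subtype.ext ?_⟩
    exact ofSubtype_subtypePerm _ fun x hx => by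
      by_contra h
      exact hx (hg x h)

theorem symEquiv_coe (S : Finset α) (g : Perm S) :
    ((symEquiv S g : sym S) : Perm α) = ofSubtype g := rfl

/-- `alt S` is the alternating group of `S` -/
noncomputable def altEquiv (S : Finset α) : alternatingGroup S ≃* alt S := by
  refine MulEquiv.ofBijective
    (((ofSubtype (p := fun x => x ∈ S)).comp (alternatingGroup S).subtype).codRestrict (alt S)
      fun g => ⟨?_, fun x hx => ofSubtype_apply_of_not_mem _ hx⟩) ⟨?_, ?_⟩
  · show ofSubtype (g : Perm S) ∈ alternatingGroup α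
    rw [mem_alternatingGroup, sign_ofSubtype]
    exact mem_alternatingGroup.mp g.2
  · intro g h hgh
    exact Subtype.ext (ofSubtype_injective (congrArg Subtype.val hgh))
  · rintro ⟨g, hg, hgS⟩
    have h1 : ofSubtype (g.subtypePerm (p := fun x => x ∈ S) fun x =>
        mem_iff_of_mem_sym (S := S) hgS) = g :=
      ofSubtype_subtypePerm _ fun x hx => by
        by_contra h
        exact hx (hgS x h)
    refine ⟨⟨g.subtypePerm fun x => mem_iff_of_mem_sym hgS, ?_⟩, Subtype.ext h1⟩
    rw [mem_alternatingGroup, ← sign_ofSubtype, h1]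
    exact mem_alternatingGroup.mp hg

theorem altEquiv_coe (S : Finset α) (g : alternatingGroup S) :
    ((altEquiv S g : alt S) : Perm α) = ofSubtype (g : Perm S) := rfl

theorem isSimpleGroup_alt {S : Finset α} (h5 : 5 ≤ S.card) : IsSimpleGroup (alt S) := by
  have h1 : IsSimpleGroup (alternatingGroup S) :=
    alternatingGroup.isSimpleGroup (by rw [Nat.card_eq_fintype_card, Fintype.card_coe]; exact h5)
  exact (altEquiv S).symm.isSimpleGroup

theorem cyc_mem_alt {S : Finset α} {i j k : α} (hi : i ∈ S) (hj : j ∈ S) (hk : k ∈ S) (hij : i ≠ j)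
    (hjk : j ≠ k) : cyc i j k ∈ alt S := by
  refine ⟨StdAlt.PermTypes.cyc_mem_alt hij hjk, fun x hx => ?_⟩
  apply StdAlt.PermTypes.cyc_apply_of_ne
  · rintro rfl; exact hx hi
  · rintro rfl; exact hx hj
  · rintro rfl; exact hx hk

/-- the alternating group of a set is generated by 3-cycles -/
theorem alt_le_of_cyc {S : Finset α} {H : Subgroup (Perm α)}
    (h : ∀ i j k, i ∈ S → j ∈ S → k ∈ S → i ≠ j → j ≠ k → i ≠ k → cyc i j k ∈ H) : alt S ≤ H := by
  intro g hg
  obtain ⟨g', hg'⟩ := (altEquiv S).surjective ⟨g, hg⟩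
  have h1 : g = ofSubtype (g' : Perm S) := by rw [← altEquiv_coe, hg']
  have h2 : (g' : Perm S) ∈ closure {σ : Perm S | σ.IsThreeCycle} := by
    rw [closure_three_cycles_eq_alternating]; exact g'.2
  rw [h1]
  have h3 : closure {σ : Perm S | σ.IsThreeCycle} ≤ H.comap (ofSubtype (p := fun x => x ∈ S)) := by
    rw [Subgroup.closure_le]
    intro σ hσ
    obtain ⟨i, j, k, hij, hjk, hik, rfl⟩ := StdAlt.PermTypes.exists_eq_cyc hσ
    show ofSubtype (cyc i j k) ∈ H
    have : (ofSubtype (cyc i j k) : Perm α) = cyc (i : α) j k := by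
      unfold StdAlt.PermTypes.cyc
      rw [map_mul, ofSubtype_swap_eq, ofSubtype_swap_eq]
    rw [this]
    exact h i j k i.2 j.2 k.2 (fun e => hij (Subtype.ext e)) (fun e => hjk (Subtype.ext e))
      (fun e => hik (Subtype.ext e))
  exact h3 h2

/-- a permutation centralizing `alt S`, `4 ≤ |S|`, fixes the points of `S` -/
theorem apply_of_comm_alt {S : Finset α} (h4 : 4 ≤ S.card) {g : Perm α}
    (h : ∀ σ ∈ alt S, g * σ = σ * g) {x : α} (hx : x ∈ S) : g x = x := by
  by_contra hne
  -- a 3-cycle of `S` moving `x` and not moving `g x`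
  obtain ⟨j, hj, k, hk, hxj, hxk, hjk, hjg, hkg⟩ : ∃ j ∈ S, ∃ k ∈ S, x ≠ j ∧ x ≠ k ∧ j ≠ k ∧
      j ≠ g x ∧ k ≠ g x := by
    have h1 : 2 ≤ ((S.erase x).erase (g x)).card := by
      have h2 := Finset.pred_card_le_card_erase (s := S) (a := x)
      have h3 := Finset.pred_card_le_card_erase (s := S.erase x) (a := g x)
      omega
    obtain ⟨j, hj, k, hk, hjk⟩ := Finset.one_lt_card.mp h1
    simp only [Finset.mem_erase] at hj hk
    exact ⟨j, hj.2.2, k, hk.2.2, Ne.symm hj.2.1, Ne.symm hk.2.1, hjk, hj.1, hk.1⟩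
  have h1 := congrArg (fun f : Perm α => f x) (h _ (cyc_mem_alt hx hj hk hxj hjk))
  simp only [Perm.mul_apply] at h1
  rw [StdAlt.PermTypes.cyc_apply_fst hxk hxj,
    StdAlt.PermTypes.cyc_apply_of_ne hne hjg.symm hkg.symm] at h1
  exact hxj (g.injective h1).symm

/-- a permutation normalizing `alt S`, `3 ≤ |S|`, preserves `S` -/
theorem apply_mem_of_normalizes {S : Finset α} (h3 : 3 ≤ S.card) {g : Perm α}
    (h : ∀ σ ∈ alt S, g * σ * g⁻¹ ∈ alt S) {x : α} (hx : x ∈ S) : g x ∈ S := by
  obtain ⟨j, hj, k, hk, hxj, hxk, hjk⟩ : ∃ j ∈ S, ∃ k ∈ S, x ≠ j ∧ x ≠ k ∧ j ≠ k := by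
    have h1 : 1 < (S.erase x).card := by
      have h2 := Finset.pred_card_le_card_erase (s := S) (a := x)
      omega
    obtain ⟨j, hj, k, hk, hjk⟩ := Finset.one_lt_card.mp h1
    simp only [Finset.mem_erase] at hj hk
    exact ⟨j, hj.2, k, hk.2, Ne.symm hj.1, Ne.symm hk.1, hjk⟩
  have h1 := h _ (cyc_mem_alt hx hj hk hxj hjk)
  rw [StdAlt.PermTypes.cyc_conj] at h1
  by_contra hn
  have h2 := h1.2 _ hn
  rw [StdAlt.PermTypes.cyc_apply_fst (fun e => hxk (g.injective e)) (fun e => hxj (g.injective e))]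
    at h2
  exact hxj (g.injective h2).symm

theorem conj_mem_alt {S : Finset α} {g : Perm α} (hg : ∀ x, g x ∈ S ↔ x ∈ S) {σ : Perm α}
    (hσ : σ ∈ alt S) : g * σ * g⁻¹ ∈ alt S := by
  refine ⟨(inferInstance : (alternatingGroup α).Normal).conj_mem _ hσ.1 g, fun x hx => ?_⟩
  have h1 : g⁻¹ x ∉ S := by
    rw [← hg]; simpa using hx
  rw [Perm.mul_apply, Perm.mul_apply, hσ.2 _ h1]
  simp

/-! ### fixed points -/

/-- the fixed points of `σ` in `S` -/
def fixIn (S : Finset α) (σ : Perm α) : Finset α := S.filter fun x => σ x = x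

theorem mem_fixIn {S : Finset α} {σ : Perm α} {x : α} : x ∈ fixIn S σ ↔ x ∈ S ∧ σ x = x :=
  Finset.mem_filter

theorem fixIn_subset (S : Finset α) (σ : Perm α) : fixIn S σ ⊆ S := Finset.filter_subset _ _

theorem alt_fixIn_le (S : Finset α) (σ : Perm α) : alt (fixIn S σ) ≤ alt S :=
  alt_mono (fixIn_subset S σ)

/-- members of `alt (fixIn S σ)` commute with `σ` -/
theorem comm_of_mem_sym_fixIn {S : Finset α} {σ : Perm α} {g : Perm α} (hg : g ∈ sym (fixIn S σ)) :
    g * σ = σ * g := by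
  ext x
  rw [Perm.mul_apply, Perm.mul_apply]
  by_cases hx : x ∈ fixIn S σ
  · rw [(mem_fixIn.mp hx).2, (mem_fixIn.mp (mem_of_mem_sym hg hx)).2]
  · rw [hg x hx]
    apply hg
    intro h
    have h1 := (mem_fixIn.mp h).2
    have h2 := σ.injective h1
    rw [h2] at h
    exact hx h

theorem alt_fixIn_le_centralizer (S : Finset α) (σ : Perm α) :
    alt (fixIn S σ) ≤ alt S ⊓ centralizer ({σ} : Set (Perm α)) :=
  le_inf (alt_fixIn_le S σ) fun _ hg =>
    mem_centralizer_singleton_iff.mpr (comm_of_mem_sym_fixIn (alt_le_sym _ hg))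

/-- permutations commuting with `σ ∈ sym S` preserve `fixIn S σ` if they preserve `S` -/
theorem apply_mem_fixIn {S : Finset α} {σ g : Perm α} (hS : ∀ x, g x ∈ S ↔ x ∈ S)
    (hc : g * σ = σ * g) {x : α} : g x ∈ fixIn S σ ↔ x ∈ fixIn S σ := by
  rw [mem_fixIn, mem_fixIn, hS]
  refine and_congr_right fun _ => ?_
  rw [← Perm.mul_apply, ← hc, Perm.mul_apply]
  exact ⟨fun h => g.injective h, fun h => congrArg g h⟩

end Cfsg.Agent.UAlt
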